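import Groth.Prelude.Def_MoreMor
import Groth.Agent.H56.RelPC.ThickStalk
import Groth.Agent.Lib.QCoh.Closure
import Groth.Agent.Lib.CohBasics.Affine
import Groth.Agent.Lib.DescAlg.FPPush
import Groth.Agent.Lib.QCoh.Pullback
import Groth.Agent.Lib.Modules.FreeStalk
import Groth.Agent.Lib.Modules.GenStalk
import Groth.Agent.Lib.Modules.SupportOps
import Groth.Agent.Lib.Perfect.LocPres
import Groth.Agent.Lib.Perfect.Coherent
import Groth.Agent.Lib.Ideal.Comap
import Groth.Agent.Lib.Flat55.FlatOverAt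

/-!
# Finite presentation along a nilpotent thickening of the base, for flat modules
-/

set_option autoImplicit false
set_option linter.style.haveILetI false
set_option maxHeartbeats 1000000

universe u

open CategoryTheory CategoryTheory.Limits AlgebraicGeometry Opposite TopologicalSpace
open scoped TensorProduct

namespace Groth.Agent.H2.ThickFP

open Groth.Agent.Lib Groth.Agent.Lib.Modules
open Groth.Agent.Lib.Modules.StalkModule (stalkMapₗ stalkMapₗ_germ)

theorem mem_map_smul_iff {A R N : Type u} [CommRing A] [CommRing R] [Algebra A R] [AddCommGroup N]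
    [Module R N] [Module A N] [IsScalarTower A R N] (I : Ideal A) (x : N) :
    x ∈ I.map (algebraMap A R) • (⊤ : Submodule R N) ↔ x ∈ I • (⊤ : Submodule A N) := by
  rw [← Submodule.restrictScalars_mem A (I.map (algebraMap A R) • (⊤ : Submodule R N)),
    Ideal.smul_restrictScalars, Submodule.restrictScalars_top]

/-- A submodule meeting a flat quotient meets the extended ideal in the product. -/
theorem mem_smul_of_flat {A R : Type u} [CommRing A] [CommRing R] [Algebra A R]
    {K L F : Type u} [AddCommGroup K] [AddCommGroup L] [AddCommGroup F] [Module R K] [Module R L]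
    [Module R F] [Module A K] [Module A L] [Module A F] [IsScalarTower A R K] [IsScalarTower A R L]
    [IsScalarTower A R F] [Module.Flat A F] (ι : K →ₗ[R] L) (π : L →ₗ[R] F)
    (hι : Function.Injective ι) (he : Function.Exact ι π) (hπ : Function.Surjective π)
    (I : Ideal A) {k : K} (hk : ι k ∈ I.map (algebraMap A R) • (⊤ : Submodule R L)) :
    k ∈ I.map (algebraMap A R) • (⊤ : Submodule R K) := by
  have hk' : ι k ∈ I • (⊤ : Submodule A L) := by
    exact (mem_map_smul_iff I _).1 hk
  suffices k ∈ I • (⊤ : Submodule A K) by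
    exact (mem_map_smul_iff I _).2 this
  let μ : ∀ (N : Type u) [AddCommGroup N] [Module A N], I ⊗[A] N →ₗ[A] N := fun N _ _ =>
    (TensorProduct.lid A N).toLinearMap ∘ₗ I.subtype.rTensor N
  obtain ⟨w, hw⟩ : ∃ w : I ⊗[A] L, μ L w = ι k :=
    Submodule.smul_induction_on hk' (fun a ha l _ => ⟨⟨a, ha⟩ ⊗ₜ l, by simp [μ]⟩)
      fun x y ⟨a, ha⟩ ⟨b, hb⟩ => ⟨a + b, by rw [map_add, ha, hb]⟩
  have hnat : ∀ {N N' : Type u} [AddCommGroup N] [AddCommGroup N'] [Module A N] [Module A N']
      (g : N →ₗ[A] N') (z : I ⊗[A] N), μ N' (g.lTensor I z) = g (μ N z) := by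
    intro N N' _ _ _ _ g z
    induction z using TensorProduct.induction_on with
    | zero => simp
    | tmul a n => simp [μ]
    | add x y hx hy => simp only [map_add, hx, hy]
  have hinj : Function.Injective (μ F) :=
    (TensorProduct.lid A F).injective.comp
      (Module.Flat.rTensor_preserves_injective_linearMap I.subtype I.injective_subtype)
  have h0 : (π.restrictScalars A).lTensor I w = 0 := by
    apply hinj
    rw [hnat, hw, map_zero]
    exact he.apply_apply_eq_zero k
  obtain ⟨v, rfl⟩ := ((lTensor_exact I (f := ι.restrictScalars A) (g := π.restrictScalars A) he hπ) w).1 h0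
  rw [hnat] at hw
  rw [← show μ K v = k from hι hw]
  clear hw h0
  induction v using TensorProduct.induction_on with
  | zero => simp
  | tmul a n => simpa [μ] using Submodule.smul_mem_smul a.2 (Submodule.mem_top : n ∈ ⊤)
  | add x y hx hy => rw [map_add]; exact add_mem hx hy

/-- Nakayama for a nilpotent ideal. -/
theorem eq_top_of_sup_smul {R M : Type u} [CommRing R] [AddCommGroup M] [Module R M] {J : Ideal R}
    (hJ : IsNilpotent J) {N : Submodule R M} (h : N ⊔ J • ⊤ = ⊤) : N = ⊤ := by
  have key : ∀ k : ℕ, N ⊔ J ^ k • ⊤ = ⊤ := fun k => by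
    induction k with
    | zero => simp
    | succ k ih =>
      refine eq_top_iff.2 (ih.ge.trans (sup_le le_sup_left ?_))
      calc J ^ k • (⊤ : Submodule R M) = J ^ k • (N ⊔ J • ⊤) := by rw [h]
        _ ≤ N ⊔ J ^ (k + 1) • ⊤ := by
          rw [Submodule.smul_sup, pow_succ, Submodule.mul_smul]
          exact sup_le (Submodule.smul_le_right.trans le_sup_left) le_sup_right
  obtain ⟨n, hn⟩ := hJ
  have := key n
  rwa [hn, show (0 : Ideal R) = ⊥ from rfl, Submodule.bot_smul, sup_bot_eq] at this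

theorem isQCoh_of_isFP {Y : Scheme.{u}} {N : Y.Modules} (h : CohB1.IsFP N) : N.IsQuasicoherent := by
  haveI : SheafOfModules.IsFinitePresentation (R := Y.ringCatSheaf) N := h
  obtain ⟨σ, -⟩ := SheafOfModules.IsFinitePresentation.exists_quasicoherentData
    (show SheafOfModules Y.ringCatSheaf from N)
  exact SheafOfModules.IsQuasicoherent.mk (C := Y.Opens) (R := Y.ringCatSheaf) (M := N) ⟨σ⟩

theorem isFT_of_isFP {X : Scheme.{u}} {M : X.Modules} (h : CohB1.IsFP M) : CohB1.IsFT M := by
  obtain ⟨σ, hσ⟩ := h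
  refine SheafOfModules.IsFiniteType.mk (C := X.Opens) (R := X.ringCatSheaf) (M := M)
    ⟨σ.localGeneratorsData, ?_⟩
  constructor
  intro i
  exact (hσ.isFinite_presentation i).isFiniteType_generators

/-- The kernel of a surjection from a finite type to a finitely presented module is of finite type. -/
theorem isFT_kernel {X : Scheme.{u}} {F G : X.Modules} [F.IsQuasicoherent] [G.IsQuasicoherent]
    (hF : CohB1.IsFT F) (hG : CohB1.IsFP G) (p : F ⟶ G) [Epi p] : CohB1.IsFT (kernel p) := by
  haveI : SheafOfModules.IsFiniteType (R := X.ringCatSheaf) F := hF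
  haveI := QCoh.Closure.isQCoh_kernel p
  refine CohBasics.Affine.isFiniteType_of_finite_sections fun x => ?_
  obtain ⟨U, hU, hx, -⟩ := exists_isAffineOpen_mem_and_subset (show x ∈ (⊤ : X.Opens) from trivial)
  haveI : Module.Finite Γ(X, U) Γ(F, U) := CohBasics.Affine.finite_sections hU
  haveI := DescAlg.FPPush.finitePresentation_sections hU G hG
  let φ : Γ(F, U) →ₗ[Γ(X, U)] Γ(G, U) :=
    { toFun := p.app U
      map_add' := map_add _
      map_smul' := fun a b => Scheme.Modules.Hom.app_smul p a b }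
  let ι : Γ(kernel p, U) →ₗ[Γ(X, U)] Γ(F, U) :=
    { toFun := (kernel.ι p).app U
      map_add' := map_add _
      map_smul' := fun a b => Scheme.Modules.Hom.app_smul _ a b }
  let S := ShortComplex.mk (kernel.ι p) p (kernel.condition p)
  have hι : Function.Injective ι := QCoh.Closure.sections_injective_of_mono (kernel.ι p) U
  have hr : LinearMap.range ι = LinearMap.ker φ := by
    refine le_antisymm ?_ fun m hm => ?_
    · rintro _ ⟨s, rfl⟩
      exact QCoh.Closure.sections_comp (S := S) U s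
    · obtain ⟨s, hs⟩ := QCoh.Closure.sections_exact (S := S)
        (S.exact_of_f_is_kernel (kernelIsKernel p)) U m hm
      exact ⟨s, hs⟩
  haveI : Module.Finite Γ(X, U) (LinearMap.range ι) := by
    rw [hr]
    exact Module.Finite.iff_fg.2
      (Module.FinitePresentation.fg_ker φ (QCoh.Closure.sections_surjective_of_epi p hU))
  exact ⟨U, hU, hx, Module.Finite.equiv (LinearEquiv.ofInjective ι hι).symm⟩

open Groth.Agent.Lib.QCoh Groth.Agent.Lib.QCoh.Tilde Groth.Agent.Lib.QCoh.Pullback in
/-- The inverse image of a finitely presented module is finitely presented. -/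
theorem isFP_pullback {X Z : Scheme.{u}} (h : Z ⟶ X) (F : X.Modules) [F.IsQuasicoherent]
    (hF : CohB1.IsFP F) : CohB1.IsFP ((Scheme.Modules.pullback h).obj F) := by
  refine Kaehler.LocalPres.isFP_of_cover fun z => ?_
  obtain ⟨U, hU, hxU, -⟩ := exists_isAffineOpen_mem_and_subset (U := ⊤) (x := h z) trivial
  obtain ⟨W, hW, hzW, hWU⟩ := exists_isAffineOpen_mem_and_subset (U := h ⁻¹ᵁ U) (x := z) hxU
  have := isQCoh_pullback hU.fromSpec F
  obtain ⟨e₀⟩ := DescAlg.FPPush.exists_specΓ_equiv hU F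
  let φ := h.appLE U W hWU
  let N := (ModuleCat.extendScalars φ.hom).obj (ModuleCat.of Γ(X, U) Γ(F, U))
  let e : (Scheme.Modules.pullback (hW.fromSpec ≫ h)).obj F ≅ (tilde.functor _).obj N :=
    (Scheme.Modules.pullbackCongr (IsAffineOpen.SpecMap_appLE_fromSpec _ hU hW hWU).symm).app F ≪≫
      ((Scheme.Modules.pullbackComp (Spec.map φ) hU.fromSpec).app F).symm ≪≫
      (Scheme.Modules.pullback (Spec.map φ)).mapIso
        ((isoTildeSections _).symm ≪≫ (tilde.functor _).mapIso
          ((specΓ _).mapIso ((Scheme.Modules.restrictFunctorIsoPullback hU.fromSpec).app F).symm ≪≫ e₀)) ≪≫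
      (pullbackTildeIso φ).app _
  have : Module.FinitePresentation Γ(X, U) Γ(F, U) := DescAlg.FPPush.finitePresentation_sections hU F hF
  letI : Algebra Γ(X, U) Γ(Z, W) := φ.hom.toAlgebra
  have : Module.FinitePresentation Γ(Z, W) N :=
    inferInstanceAs (Module.FinitePresentation Γ(Z, W) (Γ(Z, W) ⊗[Γ(X, U)] Γ(F, U)))
  exact ⟨W, hW, hzW, N, this, ⟨(Scheme.Modules.restrictFunctorIsoPullback hW.fromSpec).app _ ≪≫
    (Scheme.Modules.pullbackComp hW.fromSpec h).app F ≪≫ e⟩⟩


variable {X X' : Scheme.{u}} (i : X ⟶ X')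

/-- The semilinear unit on stalks. -/
noncomputable def η (M : X'.Modules) (y : X) :
    M.presheaf.stalk (i y) →+ ((Scheme.Modules.pullback i).obj M).presheaf.stalk y :=
  (DerivedOX.PullbackStalk.unitStalk i y M).hom.toAddMonoidHom

theorem η_smul (M : X'.Modules) (y : X) (c : X'.presheaf.stalk (i y)) (a : M.presheaf.stalk (i y)) :
    η i M y (c • a) = (i.stalkMap y).hom c • η i M y a :=
  (DerivedOX.PullbackStalk.unitStalk i y M).hom.map_smul c a

theorem η_germ (M : X'.Modules) (y : X) {U : X'.Opens} (hy : i y ∈ U) (s : Γ(M, U)) :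
    η i M y (M.presheaf.germ U (i y) hy s) =
      ((Scheme.Modules.pullback i).obj M).presheaf.germ (i ⁻¹ᵁ U) y hy
        (((Scheme.Modules.pullbackPushforwardAdjunction i).unit.app M).app U s) := by
  show DerivedOX.PullbackStalk.pushStalkMap i y _ (stalkMapₗ _ _ _) = _
  exact (congrArg (DerivedOX.PullbackStalk.pushStalkMap i y _) (stalkMapₗ_germ _ hy s)).trans
    (DerivedOX.PullbackStalk.pushStalkMap_germ i y _ hy _)

theorem η_natural {M M' : X'.Modules} (φ : M ⟶ M') (y : X) (a : M.presheaf.stalk (i y)) :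
    η i M' y (stalkMapₗ φ (i y) a) =
      stalkMapₗ ((Scheme.Modules.pullback i).map φ) y (η i M y a) :=
  ConcreteCategory.congr_hom (DerivedOX.PullbackStalk.unitStalk_natural i y φ) a

variable [IsClosedImmersion i]

theorem η_surjective (M : X'.Modules) (y : X) : Function.Surjective (η i M y) := by
  letI : Algebra (X'.presheaf.stalk (i y)) (X.presheaf.stalk y) := (i.stalkMap y).hom.toAlgebra
  intro b
  obtain ⟨z, rfl⟩ := ((ConcreteCategory.isIso_iff_bijective
    ((DerivedOX.PullbackStalk.comparison i y).app M)).mp inferInstance).2 b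
  obtain ⟨a, rfl⟩ : ∃ a, (1 : X.presheaf.stalk y) ⊗ₜ[X'.presheaf.stalk (i y)] a = z := by
    induction z using TensorProduct.induction_on with
    | zero => exact ⟨0, TensorProduct.tmul_zero _ _⟩
    | tmul c a =>
      obtain ⟨r, rfl⟩ := i.stalkMap_surjective y c
      exact ⟨r • a, by rw [← TensorProduct.smul_tmul, Algebra.smul_def, mul_one]; rfl⟩
    | add x z hx hz =>
      obtain ⟨a, rfl⟩ := hx
      obtain ⟨b, rfl⟩ := hz
      exact ⟨a + b, TensorProduct.tmul_add _ _ _⟩
  exact ⟨a, (DerivedOX.PullbackStalk.comparison_one_tmul i y M a).symm⟩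

theorem η_eq_zero_iff (M : X'.Modules) (y : X) (a : M.presheaf.stalk (i y)) :
    η i M y a = 0 ↔
      a ∈ RingHom.ker (i.stalkMap y).hom • (⊤ : Submodule (X'.presheaf.stalk (i y)) (M.presheaf.stalk (i y))) := by
  constructor
  · intro h
    letI : Algebra (X'.presheaf.stalk (i y)) (X.presheaf.stalk y) := (i.stalkMap y).hom.toAlgebra
    have h1 : (1 : X.presheaf.stalk y) ⊗ₜ[X'.presheaf.stalk (i y)] a = 0 := by
      apply ((ConcreteCategory.isIso_iff_bijective
        ((DerivedOX.PullbackStalk.comparison i y).app M)).mp inferInstance).1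
      exact ((DerivedOX.PullbackStalk.comparison_one_tmul i y M a).trans h).trans (map_zero _).symm
    let e := Ideal.quotientKerAlgEquivOfSurjective
      (f := Algebra.ofId (X'.presheaf.stalk (i y)) (X.presheaf.stalk y)) (i.stalkMap_surjective y)
    have h2 := congrArg (fun z => TensorProduct.quotTensorEquivQuotSMul (M.presheaf.stalk (i y)) _
      (TensorProduct.congr e.symm.toLinearEquiv (LinearEquiv.refl _ _) z)) h1
    simp only [map_zero, TensorProduct.congr_tmul, LinearEquiv.refl_apply] at h2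
    rw [show e.symm.toLinearEquiv 1 = Ideal.Quotient.mk _ 1 from (map_one e.symm),
      TensorProduct.quotTensorEquivQuotSMul_mk_tmul, one_smul, Submodule.Quotient.mk_eq_zero] at h2
    exact h2
  · intro h
    refine Submodule.smul_induction_on h (fun r hr m _ => ?_) fun x z hx hz => by
      rw [map_add, hx, hz, add_zero]
    rw [η_smul, RingHom.mem_ker.1 hr, zero_smul]

/-- Sections of `M` lifting generators of the inverse image generate `M` nearby. -/
theorem exists_span [AlgebraicGeometry.Surjective i]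
    (hn : ∀ y : X, IsNilpotent (RingHom.ker (i.stalkMap y).hom)) (M : X'.Modules)
    (hM : CohB1.IsFT ((Scheme.Modules.pullback i).obj M)) (y : X) :
    ∃ (W : X'.Opens) (n : ℕ) (s : Fin n → Γ(M, W)), i y ∈ W ∧ ∀ (x : X') (hx : x ∈ W),
      Submodule.span (X'.presheaf.stalk x) (Set.range fun k => M.presheaf.germ W x hx (s k)) = ⊤ := by
  classical
  haveI : SheafOfModules.IsFiniteType (R := X.ringCatSheaf)
    ((Scheme.Modules.pullback i).obj M) := hM
  let P := (Scheme.Modules.pullback i).obj M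
  let u := (Scheme.Modules.pullbackPushforwardAdjunction i).unit.app M
  obtain ⟨U, hyU, n, t, ht⟩ := GenStalk.exists_span_stalk_of_isFiniteType P y
  choose a ha using fun k => η_surjective i M y (P.presheaf.germ U y hyU (t k))
  choose W₁ hW₁ g hg using fun k => TopCat.Presheaf.exists_germ_eq M.presheaf (a k)
  choose V hV iV jV hVeq using fun k => TopCat.Presheaf.germ_eq (V := U) P.presheaf y
    (show y ∈ i ⁻¹ᵁ W₁ k from hW₁ k) hyU (u.app (W₁ k) (g k)) (t k)
    (((η_germ i M y (hW₁ k) (g k)).symm.trans (congrArg (η i M y) (hg k))).trans (ha k))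
  have hinfy : ∀ {Y : Scheme.{u}} {f : Fin n → Y.Opens} {z : Y}, (∀ k, z ∈ f k) →
      z ∈ Finset.univ.inf f := fun {Y f z} h => by
    rw [← SetLike.mem_coe, Opens.coe_finset_inf, Finset.inf_set_eq_iInter]
    simp only [Set.mem_iInter]
    exact fun k _ => h k
  let V₀ : X.Opens := Finset.univ.inf V ⊓ U
  let C : X'.Opens := ⟨(i.base '' (V₀ : Set X)ᶜ)ᶜ,
    (i.isClosedEmbedding.isClosedMap _ V₀.isOpen.isClosed_compl).isOpen_compl⟩
  let W : X'.Opens := Finset.univ.inf W₁ ⊓ C
  have hWle : ∀ k, W ≤ W₁ k := fun k => inf_le_left.trans (Finset.inf_le (Finset.mem_univ k))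
  refine ⟨W, n, fun k => M.presheaf.map (homOfLE (hWle k)).op (g k), ⟨hinfy hW₁, ?_⟩, ?_⟩
  · rintro ⟨z, hz, he⟩
    exact hz (i.isClosedEmbedding.injective he ▸ ⟨hinfy hV, hyU⟩)
  intro x hx
  obtain ⟨z, rfl⟩ := i.surjective x
  have hz : z ∈ V₀ := by_contra fun h => hx.2 ⟨z, h, rfl⟩
  have hgz : ∀ k, η i M z (M.presheaf.germ W (i z) hx (M.presheaf.map (homOfLE (hWle k)).op (g k))) =
      P.presheaf.germ U z hz.2 (t k) := fun k => by
    have hzV : z ∈ V k := (Finset.inf_le (Finset.mem_univ k) : Finset.univ.inf V ≤ V k) hz.1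
    rw [TopCat.Presheaf.germ_res_apply M.presheaf (homOfLE (hWle k)) (i z) hx (g k), η_germ]
    rw [← TopCat.Presheaf.germ_res_apply P.presheaf (iV k) z hzV (u.app (W₁ k) (g k)),
      ← TopCat.Presheaf.germ_res_apply P.presheaf (jV k) z hzV (t k)]
    exact congrArg (P.presheaf.germ (V k) z hzV) (hVeq k)
  refine eq_top_of_sup_smul (hn z) (eq_top_iff.2 fun b _ => ?_)
  have hb : η i M z b ∈ Submodule.span (X.presheaf.stalk z)
      (Set.range fun k => P.presheaf.germ U z hz.2 (t k)) := by rw [ht z hz.2]; trivial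
  obtain ⟨c, hc⟩ := (Submodule.mem_span_range_iff_exists_fun _).1 hb
  choose r hr using fun k => i.stalkMap_surjective z (c k)
  let m := ∑ k, r k • M.presheaf.germ W (i z) hx (M.presheaf.map (homOfLE (hWle k)).op (g k))
  have hm : η i M z (b - m) = 0 := by
    rw [map_sub, map_sum, ← hc, sub_eq_zero]
    refine Finset.sum_congr rfl fun k _ => ?_
    rw [η_smul, hgz, hr]
  rw [show b = m + (b - m) by abel]
  exact Submodule.add_mem_sup (Submodule.sum_mem _ fun k _ =>
    Submodule.smul_mem _ _ (Submodule.subset_span ⟨k, rfl⟩)) ((η_eq_zero_iff i M z _).1 hm)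

/-- The morphism from a free module given by sections spanning all stalks is an epimorphism. -/
theorem exists_epi_of_span {M : X'.Modules} {W : X'.Opens} {n : ℕ} (s : Fin n → Γ(M, W))
    (hs : ∀ (x : X') (hx : x ∈ W),
      Submodule.span (X'.presheaf.stalk x) (Set.range fun k => M.presheaf.germ W x hx (s k)) = ⊤) :
    ∃ φ : FlatMod.freeMod (W : Scheme.{u}) n ⟶ M.restrict W.ι, Epi φ := by
  let s' : Fin n → Γ(M.restrict W.ι, ⊤) := fun k =>
    M.presheaf.map (homOfLE (show W.ι ''ᵁ ⊤ ≤ W from W.ι_image_top.le)).op (s k)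
  refine ⟨Free.freeHom s', (Stalk.epi_iff_stalk_surjective _).2 fun x v => ?_⟩
  show v ∈ LinearMap.range (stalkMapₗ (Free.freeHom s') x)
  have hspan : Submodule.span ((W : Scheme.{u}).presheaf.stalk x)
      (Set.range fun k => (M.restrict W.ι).presheaf.germ ⊤ x trivial (s' k)) = ⊤ := by
    refine eq_top_iff.2 fun w _ => ?_
    have h := StalkRestrict.span_image_restrictStalkAddEquiv W.ι M x
      (Set.range fun k => (M.restrict W.ι).presheaf.germ ⊤ x trivial (s' k))
    have hw : StalkRestrict.restrictStalkAddEquiv W.ι M x w ∈ Submodule.span (X'.presheaf.stalk (W.ι x))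
        (StalkRestrict.restrictStalkAddEquiv W.ι M x ''
          Set.range fun k => (M.restrict W.ι).presheaf.germ ⊤ x trivial (s' k)) := by
      refine (Submodule.span_mono ?_) ((hs (W.ι x) x.2).ge Submodule.mem_top)
      rintro _ ⟨k, rfl⟩
      refine ⟨_, ⟨k, rfl⟩, ?_⟩
      exact (StalkRestrict.restrictStalkAddEquiv_germ W.ι M (U := ⊤) trivial (s' k)).trans
        (TopCat.Presheaf.germ_res_apply M.presheaf _ _ _ _)
    have hw' : StalkRestrict.restrictStalkAddEquiv W.ι M x w ∈ (Submodule.span (X'.presheaf.stalk (W.ι x))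
        (StalkRestrict.restrictStalkAddEquiv W.ι M x ''
          Set.range fun k => (M.restrict W.ι).presheaf.germ ⊤ x trivial (s' k)) : Set _) := hw
    rw [h] at hw'
    obtain ⟨w', hw1, hw2⟩ := hw'
    rwa [← (StalkRestrict.restrictStalkAddEquiv W.ι M x).injective hw2]
  refine (eq_top_iff.1 hspan).trans ?_ Submodule.mem_top
  rw [Submodule.span_le]
  rintro _ ⟨k, rfl⟩
  exact ⟨_, Free.freeHom_stalk_germ s' x k⟩

variable {T T' : Scheme.{u}} {q : X ⟶ T} {q' : X' ⟶ T'} {t : T ⟶ T'}

omit [IsClosedImmersion i] in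
/-- The kernel on stalks of a base change of a closed immersion is extended from the base. -/
theorem exists_ideal [IsClosedImmersion t] (hsq : IsPullback i q q' t) (y : X) :
    ∃ I : Ideal (T'.presheaf.stalk (q' (i y))),
      RingHom.ker (i.stalkMap y).hom = I.map (q'.stalkMap (i y)).hom := by
  haveI : IsClosedImmersion i := MorphismProperty.of_isPullback hsq.flip ‹IsClosedImmersion t›
  have hker : i.ker = t.ker.comap q' := by
    rw [← hsq.isoPullback_hom_fst, Scheme.Hom.ker_comp_of_isIso]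
    exact Scheme.IdealSheafData.ker_fst_of_isClosedImmersion t q'
  obtain ⟨U, V, hyU, hyV, -, -, e⟩ := Lib.Ideal.Comap.exists_affine_le_preimage q' (i y)
    (W := ⊤) trivial (U := ⊤) trivial
  let γ := (X'.presheaf.germ V.1 (i y) hyV).hom
  let δ := (T'.presheaf.germ U.1 (q' (i y)) hyU).hom
  have hcomm : γ.comp (q'.appLE U.1 V.1 e).hom = (q'.stalkMap (i y)).hom.comp δ := by
    ext a
    show X'.presheaf.germ V.1 (i y) hyV (q'.appLE U.1 V.1 e a) =
      q'.stalkMap (i y) (T'.presheaf.germ U.1 (q' (i y)) hyU a)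
    rw [Scheme.Hom.germ_stalkMap_apply]
    exact TopCat.Presheaf.germ_res_apply X'.presheaf (homOfLE e) (i y) hyV (q'.app U.1 a)
  refine ⟨(t.ker.ideal U).map δ, ?_⟩
  rw [Ideal.map_map, ← hcomm, ← Ideal.map_map, ← Lib.Ideal.Comap.ideal_comap q' t.ker U V e, ← hker]
  refine le_antisymm (fun a ha => ?_) (Ideal.map_le_iff_le_comap.2 fun s hs => ?_)
  · letI := TopCat.Presheaf.algebra_section_stalk X'.presheaf (⟨i y, hyV⟩ : V.1)
    haveI : IsLocalization.AtPrime (X'.presheaf.stalk (i y)) (V.2.primeIdealOf ⟨i y, hyV⟩).asIdeal :=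
      V.2.isLocalization_stalk ⟨i y, hyV⟩
    obtain ⟨s, w, rfl⟩ := IsLocalization.exists_mk'_eq (V.2.primeIdealOf ⟨i y, hyV⟩).asIdeal.primeCompl a
    rw [RingHom.mem_ker] at ha
    have hs : i.stalkMap y (γ s) = 0 := by
      have h := congrArg (i.stalkMap y).hom (IsLocalization.mk'_spec (X'.presheaf.stalk (i y)) s w)
      rw [map_mul, ha, zero_mul] at h
      exact h.symm
    rw [Scheme.Hom.germ_stalkMap_apply] at hs
    have hD : IsAffineOpen (i ⁻¹ᵁ V.1) := V.2.preimage i
    letI := TopCat.Presheaf.algebra_section_stalk X.presheaf (⟨y, hyV⟩ : (i ⁻¹ᵁ V.1 : X.Opens))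
    haveI : IsLocalization.AtPrime (X.presheaf.stalk y) (hD.primeIdealOf ⟨y, hyV⟩).asIdeal :=
      hD.isLocalization_stalk ⟨y, hyV⟩
    obtain ⟨v, hv⟩ := (IsLocalization.map_eq_zero_iff (hD.primeIdealOf ⟨y, hyV⟩).asIdeal.primeCompl
      (X.presheaf.stalk y) (i.app V.1 s)).1 hs
    obtain ⟨c, hc⟩ := H56.RelPC.Thick.app_surjective i V.2 v.1
    have hcs : c * s ∈ i.ker.ideal V := by
      rw [Scheme.Hom.ker_apply, RingHom.mem_ker, map_mul]
      exact (congrArg (· * i.app V.1 s) hc).trans hv
    have hunit : IsUnit (γ c) := by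
      have : IsUnit (i.stalkMap y (γ c)) := by
        rw [Scheme.Hom.germ_stalkMap_apply, hc]
        exact IsLocalization.map_units (X.presheaf.stalk y) v
      exact isUnit_of_map_unit (i.stalkMap y).hom _ this
    have hγs : γ s ∈ (i.ker.ideal V).map γ := by
      have h := Ideal.mem_map_of_mem γ hcs
      rw [map_mul] at h
      exact (Ideal.unit_mul_mem_iff_mem _ hunit).1 h
    rw [IsLocalization.mk'_eq_mul_mk'_one]
    exact Ideal.mul_mem_right _ _ hγs
  · rw [Ideal.mem_comap, RingHom.mem_ker]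
    rw [Scheme.Hom.ker_apply, RingHom.mem_ker] at hs
    show i.stalkMap y (X'.presheaf.germ V.1 (i y) hyV s) = 0
    rw [Scheme.Hom.germ_stalkMap_apply, hs, map_zero]

omit [IsClosedImmersion i] in
/-- Inverse image along the thickening keeps injective maps with flat cokernel injective. -/
theorem mono_pullback [IsClosedImmersion t] (hsq : IsPullback i q q' t) {S : ShortComplex X'.Modules}
    (hS : S.ShortExact) (hfl : FlatMod.IsFlatOver q' S.X₃) :
    Mono ((Scheme.Modules.pullback i).map S.f) := by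
  haveI : IsClosedImmersion i := MorphismProperty.of_isPullback hsq.flip ‹IsClosedImmersion t›
  rw [Stalk.mono_iff_stalk_injective]
  intro y
  show Function.Injective (stalkMapₗ ((Scheme.Modules.pullback i).map S.f) y)
  rw [injective_iff_map_eq_zero]
  intro b hb
  obtain ⟨k, rfl⟩ := η_surjective i S.X₁ y b
  rw [← η_natural, η_eq_zero_iff] at hb
  rw [η_eq_zero_iff]
  obtain ⟨I, hI⟩ := exists_ideal i hsq y
  rw [hI] at hb ⊢
  have hSy := (Stalk.shortExact_iff_stalk S).1 hS (i y)
  letI : Algebra (T'.presheaf.stalk (q' (i y))) (X'.presheaf.stalk (i y)) :=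
    (q'.stalkMap (i y)).hom.toAlgebra
  letI : ∀ N : X'.Modules, Module (T'.presheaf.stalk (q' (i y))) (N.presheaf.stalk (i y)) := fun N =>
    FlatMod.moduleStalkOver q' N (i y)
  haveI : ∀ N : X'.Modules, IsScalarTower (T'.presheaf.stalk (q' (i y))) (X'.presheaf.stalk (i y))
      (N.presheaf.stalk (i y)) := fun N => IsScalarTower.of_algebraMap_smul fun _ _ => rfl
  haveI : Module.Flat (T'.presheaf.stalk (q' (i y))) (S.X₃.presheaf.stalk (i y)) := hfl (i y)
  refine mem_smul_of_flat (stalkMapₗ S.f (i y)) (stalkMapₗ S.g (i y)) ?_ ?_ ?_ I hb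
  · exact (AddCommGrpCat.mono_iff_injective _).1 hSy.mono_f
  · intro v
    exact ((ShortComplex.ab_exact_iff_function_exact _).1 hSy.exact) v
  · exact (AddCommGrpCat.epi_iff_surjective _).1 hSy.epi_g

omit [IsClosedImmersion i] in
/-- The kernel of a presentation of a flat module has finite type inverse image. -/
theorem isFT_kernel_pullback [IsClosedImmersion t] (hsq : IsPullback i q q' t) {M : X'.Modules}
    (hfl : FlatMod.IsFlatOver q' M) (hM : CohB1.IsFP ((Scheme.Modules.pullback i).obj M)) {n : ℕ}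
    (φ : FlatMod.freeMod X' n ⟶ M) [Epi φ] :
    CohB1.IsFT ((Scheme.Modules.pullback i).obj (kernel φ)) := by
  let S := ShortComplex.mk (kernel.ι φ) φ (kernel.condition φ)
  have hS : S.ShortExact :=
    { exact := S.exact_of_f_is_kernel (kernelIsKernel φ) }
  haveI := mono_pullback i hsq hS hfl
  haveI : PreservesColimitsOfSize.{0, 0} (Scheme.Modules.pullback i) :=
    (Scheme.Modules.pullbackPushforwardAdjunction i).leftAdjoint_preservesColimits
  haveI : PreservesFiniteColimits (Scheme.Modules.pullback i) :=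
    PreservesColimitsOfSize.preservesFiniteColimits _
  haveI : Epi ((Scheme.Modules.pullback i).map φ) := inferInstance
  haveI : (Scheme.Modules.pullback i).Additive :=
    (Scheme.Modules.pullbackPushforwardAdjunction i).left_adjoint_additive
  haveI : Mono (S.map (Scheme.Modules.pullback i)).f := ‹Mono ((Scheme.Modules.pullback i).map S.f)›
  have hex : (S.map (Scheme.Modules.pullback i)).Exact :=
    ((Functor.preservesFiniteColimits_iff_forall_exact_map_and_epi (Scheme.Modules.pullback i)).1 inferInstance S hS).1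
  haveI : (FlatMod.freeMod X' n).IsQuasicoherent := TensorMod.QCohInv.isQCoh_freeMod X' n
  haveI : ((Scheme.Modules.pullback i).obj (FlatMod.freeMod X' n)).IsQuasicoherent :=
    QCoh.Pullback.isQCoh_pullback i _
  haveI : SheafOfModules.IsFinitePresentation (R := X.ringCatSheaf) ((Scheme.Modules.pullback i).obj M) := hM
  haveI : ((Scheme.Modules.pullback i).obj M).IsQuasicoherent := isQCoh_of_isFP hM
  have hfree : CohB1.IsFT ((Scheme.Modules.pullback i).obj (FlatMod.freeMod X' n)) :=
    haveI : SheafOfModules.IsFiniteType (R := X'.ringCatSheaf) (FlatMod.freeMod X' n) :=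
      (Perfect.Coherent.isCoh_freeMod X' n).2
    Modules.SupportOps.isFT_pullback i _
  exact @Modules.SupportOps.isFT_of_iso _ _ _
    (hex.fIsKernel.conePointUniqueUpToIso (kernelIsKernel _)).symm
    (isFT_kernel hfree hM ((Scheme.Modules.pullback i).map φ))

/-- Restriction of the square to an open. -/
theorem isPullback_res (hsq : IsPullback i q q' t) (W : X'.Opens) :
    IsPullback (i ∣_ W) ((i ⁻¹ᵁ W).ι ≫ q) (W.ι ≫ q') t :=
  (isPullback_morphismRestrict i W).paste_vert hsq

/-- The inverse image of the restriction. -/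
noncomputable def pullRes (M : X'.Modules) (W : X'.Opens) :
    (Scheme.Modules.pullback (i ∣_ W)).obj (M.restrict W.ι) ≅
      (Scheme.Modules.pullback (i ⁻¹ᵁ W).ι).obj ((Scheme.Modules.pullback i).obj M) :=
  (Scheme.Modules.pullback (i ∣_ W)).mapIso ((Scheme.Modules.restrictFunctorIsoPullback W.ι).app M) ≪≫
    (Scheme.Modules.pullbackComp (i ∣_ W) W.ι).app M ≪≫
      (Scheme.Modules.pullbackCongr (morphismRestrict_ι i W)).app M ≪≫
        ((Scheme.Modules.pullbackComp (i ⁻¹ᵁ W).ι i).app M).symm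

omit [IsClosedImmersion i] in
/-- Finite presentation of a flat module from that of its inverse image. -/
theorem isFP_of_isFP_pullback [IsClosedImmersion t] [AlgebraicGeometry.Surjective i]
    (hsq : IsPullback i q q' t) (hn : IsNilpotent i.ker) (M : X'.Modules)
    (hfl : FlatMod.IsFlatOver q' M) (hM : CohB1.IsFP ((Scheme.Modules.pullback i).obj M)) :
    CohB1.IsFP M := by
  haveI : IsClosedImmersion i := MorphismProperty.of_isPullback hsq.flip ‹IsClosedImmersion t›
  refine Perfect.LocPres.isFP_of_locPres fun x => ?_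
  obtain ⟨y, rfl⟩ := i.surjective x
  obtain ⟨W, n, s, hyW, hs⟩ := exists_span i (H56.RelPC.Thick.isNilpotent_ker_stalkMap i hn) M
    (isFT_of_isFP hM) y
  obtain ⟨φ, _⟩ := exists_epi_of_span s hs
  haveI : IsClosedImmersion (i ∣_ W) :=
    MorphismProperty.of_isPullback (isPullback_morphismRestrict i W).flip ‹IsClosedImmersion i›
  have hflW : FlatMod.IsFlatOver (W.ι ≫ q') (M.restrict W.ι) := fun z =>
    Flat55.FlatOverAt.of_iso _ ((Scheme.Modules.restrictFunctorIsoPullback W.ι).app M).symm z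
      ((Flat55.FlatOverAt.isFlatOverAt_pullback_iff W.ι q' M z (Flat.stalkMap W.ι z)).2 (hfl _))
  haveI : SheafOfModules.IsFinitePresentation (R := X.ringCatSheaf) ((Scheme.Modules.pullback i).obj M) := hM
  haveI : ((Scheme.Modules.pullback i).obj M).IsQuasicoherent := isQCoh_of_isFP hM
  have hMW : CohB1.IsFP ((Scheme.Modules.pullback (i ∣_ W)).obj (M.restrict W.ι)) :=
    (SheafOfModules.isFinitePresentation ((i ⁻¹ᵁ W : X.Opens) : Scheme.{u}).ringCatSheaf).prop_of_iso (pullRes i M W).symm
      (isFP_pullback (i ⁻¹ᵁ W).ι _ hM)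
  have hK := isFT_kernel_pullback (i ∣_ W) (isPullback_res i hsq W) hflW hMW φ
  haveI : AlgebraicGeometry.Surjective (i ∣_ W) :=
    MorphismProperty.of_isPullback (isPullback_morphismRestrict i W).flip ‹AlgebraicGeometry.Surjective i›
  have hnW : ∀ z, IsNilpotent (RingHom.ker ((i ∣_ W).stalkMap z).hom) := by
    intro z
    obtain ⟨m, hm⟩ := hn
    refine H56.RelPC.Thick.isNilpotent_ker_stalkMap (i ∣_ W) ⟨m, ?_⟩ z
    have hk : (i ∣_ W).ker = i.ker.comap W.ι := by
      rw [← (isPullback_morphismRestrict i W).flip.isoPullback_hom_snd, Scheme.Hom.ker_comp_of_isIso]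
      have h := Scheme.IdealSheafData.ker_fst_of_isClosedImmersion i W.ι
      rw [← pullbackSymmetry_hom_comp_fst, Scheme.Hom.ker_comp_of_isIso, h]
    rw [hk, ← Lib.Ideal.Comap.comap_pow, hm]
    exact Scheme.IdealSheafData.comap_bot _
  obtain ⟨z, hz⟩ : ∃ z : ↥((i ⁻¹ᵁ W : X.Opens) : Scheme.{u}), ((i ⁻¹ᵁ W).ι z) = y := ⟨⟨y, hyW⟩, rfl⟩
  obtain ⟨W₂, m, r, hzW, hr⟩ := exists_span (i ∣_ W) hnW (kernel φ) hK z
  obtain ⟨ψ, _⟩ := exists_epi_of_span r hr
  let R := Scheme.Modules.restrictFunctor W₂.ι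
  haveI : PreservesColimitsOfSize.{0, 0} R :=
    (Scheme.Modules.restrictAdjunction W₂.ι).leftAdjoint_preservesColimits
  let θ : FlatMod.freeMod (W₂ : Scheme.{u}) m ⟶ FlatMod.freeMod (W₂ : Scheme.{u}) n :=
    ψ ≫ R.map (kernel.ι φ) ≫ (Free.restrictFreeIso W₂.ι n).hom
  refine ⟨W₂, W₂.ι ≫ W.ι, inferInstance, ⟨(i ∣_ W) z, hzW⟩, n, m, θ, ?_, ⟨?_⟩⟩
  · show W.ι ((i ∣_ W) z) = i y
    rw [← Scheme.Hom.comp_apply, morphismRestrict_ι, Scheme.Hom.comp_apply, hz]
  · refine (Scheme.Modules.restrictFunctorComp W₂.ι W.ι).app M ≪≫ ?_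
    let S := ShortComplex.mk (kernel.ι φ) φ (kernel.condition φ)
    have hex : S.Exact := S.exact_of_f_is_kernel (kernelIsKernel φ)
    haveI : Epi S.g := ‹Epi φ›
    exact R.mapIso ((cokernelIsCokernel S.f).coconePointUniqueUpToIso hex.gIsCokernel).symm ≪≫
      PreservesCokernel.iso R (kernel.ι φ) ≪≫
        (cokernelCompIsIso (R.map (kernel.ι φ)) (Free.restrictFreeIso W₂.ι n).hom).symm ≪≫
          (cokernelEpiComp ψ (R.map (kernel.ι φ) ≫ (Free.restrictFreeIso W₂.ι n).hom)).symm

end Groth.Agent.H2.ThickFP
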